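import Mathlib
import Cfsg.Agent.Lib.Helper49.AO.Defs

set_option autoImplicit false

namespace Cfsg.Agent.Lib.Helper49.AO

theorem orbits_le_classes {G : Type*} [Group G] [Finite G] :
    Nat.card (MulAction.orbitRel.Quotient (MulAut G) G) ≤ Nat.card (ConjClasses G) := by
  let f : ConjClasses G → MulAction.orbitRel.Quotient (MulAut G) G :=
    Quotient.map' (s₁ := IsConj.setoid G) (s₂ := MulAction.orbitRel (MulAut G) G) id (by
      intro a b hab
      obtain ⟨c, hc⟩ := isConj_iff.1 hab
      change a ∈ MulAction.orbit (MulAut G) b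
      refine ⟨MulAut.conj c⁻¹, ?_⟩
      change MulAut.conj c⁻¹ b = a
      rw [← hc]; simp [mul_assoc])
  apply Nat.card_le_card_of_surjective f
  intro q
  induction q using Quotient.inductionOn' with
  | h a => exact ⟨ConjClasses.mk a, rfl⟩

end Cfsg.Agent.Lib.Helper49.AO
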